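import Groth.Agent.Sga67.LocBasis
import Groth.Agent.S0024

/-!
# Affine morphisms with free direct image over schemes with trivial global functions

* `isBaseChange_of_bases` : a map taking a basis to a basis is a base change.
* `isPullback_local` : the local square.
* `isPullback_of_free` : if `q : P ⟶ Spec k` has `Γ(P, O_P) = k`, `f : F ⟶ P` is affine and `f_* O_F` is free of
  finite rank, the square of `F ⟶ Spec Γ(F, O_F)`, `f`, `q` is cartesian.
-/

set_option autoImplicit false
universe u

open CategoryTheory CategoryTheory.Limits AlgebraicGeometry Opposite TopologicalSpace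
open scoped TensorProduct

namespace K924.FreePush

open Groth.Agent Groth.Agent.Sga67 Groth.Agent.Sga67.Sec Groth.Agent.Sga67.LocBasis

theorem isBaseChange_of_bases {R S M N ι : Type*} [CommRing R] [CommRing S] [Algebra R S] [AddCommGroup M]
    [Module R M] [AddCommGroup N] [Module R N] [Module S N] [IsScalarTower R S N]
    (b : Module.Basis ι R M) (c : Module.Basis ι S N) (f : M →ₗ[R] N) (h : ∀ i, c i = f (b i)) :
    IsBaseChange S f := by
  refine IsBaseChange.of_equiv ((b.baseChange S).equiv c (Equiv.refl _)) fun x => ?_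
  have : (((b.baseChange S).equiv c (Equiv.refl _)).toLinearMap.restrictScalars R).comp
      (TensorProduct.mk R S M 1) = f := by
    apply b.ext
    intro i
    simp only [LinearMap.comp_apply, TensorProduct.mk_apply, LinearMap.restrictScalars_apply,
      LinearEquiv.coe_coe]
    rw [← h i, ← Module.Basis.baseChange_apply, Module.Basis.equiv_apply, Equiv.refl_apply]
  exact congr($this x)

theorem isPushout_of_bijective {k A B C : CommRingCat.{u}} (ψ : k ⟶ A) (φ : k ⟶ B) (α : A ⟶ C) (β : B ⟶ C)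
    (w : ψ ≫ α = φ ≫ β) {d : ℕ} (c : Fin d → B)
    (h1 : Function.Bijective (fun a : Fin d → k => ∑ i, φ (a i) * c i))
    (h2 : Function.Bijective (fun a : Fin d → A => ∑ i, α (a i) * β (c i))) : IsPushout ψ φ α β := by
  let _ : Algebra k A := ψ.hom.toAlgebra
  let _ : Algebra k B := φ.hom.toAlgebra
  let _ : Algebra A C := α.hom.toAlgebra
  let _ : Algebra B C := β.hom.toAlgebra
  let _ : Algebra k C := (ψ ≫ α).hom.toAlgebra
  have t1 : IsScalarTower k A C := IsScalarTower.of_algebraMap_eq fun x => rfl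
  have t2 : IsScalarTower k B C := IsScalarTower.of_algebraMap_eq fun x => congr(($w).hom x)
  let L1 : (Fin d → k) →ₗ[k] B :=
    { toFun := fun a => ∑ i, φ (a i) * c i
      map_add' := fun a a' => by simp only [Pi.add_apply, map_add, add_mul, Finset.sum_add_distrib]
      map_smul' := fun r a => by
        simp only [Pi.smul_apply, smul_eq_mul, map_mul, RingHom.id_apply, Algebra.smul_def, Finset.mul_sum, mul_assoc]
        rfl }
  let L2 : (Fin d → A) →ₗ[A] C :=
    { toFun := fun a => ∑ i, α (a i) * β (c i)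
      map_add' := fun a a' => by simp only [Pi.add_apply, map_add, add_mul, Finset.sum_add_distrib]
      map_smul' := fun r a => by
        simp only [Pi.smul_apply, smul_eq_mul, map_mul, RingHom.id_apply, Algebra.smul_def, Finset.mul_sum, mul_assoc]
        rfl }
  let b1 : Module.Basis (Fin d) k B := Module.Basis.ofEquivFun (LinearEquiv.ofBijective L1 h1).symm
  let b2 : Module.Basis (Fin d) A C := Module.Basis.ofEquivFun (LinearEquiv.ofBijective L2 h2).symm
  have hb1 : ∀ i, b1 i = c i := by
    intro i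
    rw [Module.Basis.coe_ofEquivFun, LinearEquiv.symm_symm]
    change ∑ j, φ ((Pi.single i (1 : k) : Fin d → k) j) * c j = _
    rw [Finset.sum_eq_single i]
    · simp
    · intro j _ hj
      simp [hj]
    · simp
  have hb2 : ∀ i, b2 i = β (c i) := by
    intro i
    rw [Module.Basis.coe_ofEquivFun, LinearEquiv.symm_symm]
    change ∑ j, α ((Pi.single i (1 : A) : Fin d → A) j) * β (c j) = _
    rw [Finset.sum_eq_single i]
    · simp
    · intro j _ hj
      simp [hj]
    · simp
  have hpo : Algebra.IsPushout k A B C := by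
    refine ⟨isBaseChange_of_bases b1 b2 _ fun i => ?_⟩
    rw [hb1, hb2]
    rfl
  exact CommRingCat.isPushout_of_isPushout k A B C

/-- The local cartesian square. -/
theorem isPullback_local {P F : Scheme.{u}} {R : CommRingCat.{u}} {q : P ⟶ Spec R} (f : F ⟶ P) [IsAffineHom f]
    (V : P.Opens) (hV : IsAffineOpen V) (ψ : R ⟶ Γ(P, V)) (φ : R ⟶ Γ(F, ⊤))
    (hψ : Spec.map ψ = hV.fromSpec ≫ q)
    (h : IsPushout ψ φ (f.app V) (F.presheaf.map (homOfLE (le_top : f ⁻¹ᵁ V ≤ ⊤)).op)) :
    IsPullback (f ∣_ V) ((f ⁻¹ᵁ V).ι ≫ F.toSpecΓ) (V.ι ≫ q) (Spec.map φ) := by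
  have hV' : IsAffineOpen (f ⁻¹ᵁ V) := hV.preimage f
  have h1 := isPullback_SpecMap_of_isPushout _ _ _ _ h
  have e1 : (f ∣_ V) ≫ hV.isoSpec.hom = hV'.isoSpec.hom ≫ Spec.map (f.app V) := by
    rw [← cancel_mono hV.fromSpec, Category.assoc, Category.assoc, hV.isoSpec_hom_fromSpec,
      morphismRestrict_ι]
    have := hV.SpecMap_appLE_fromSpec f hV' le_rfl
    rw [← Scheme.Hom.app_eq_appLE] at this
    rw [this, hV'.isoSpec_hom_fromSpec_assoc]
  have e2 : (f ⁻¹ᵁ V).ι ≫ F.toSpecΓ = hV'.isoSpec.hom ≫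
      Spec.map (F.presheaf.map (homOfLE (le_top : f ⁻¹ᵁ V ≤ ⊤)).op) := by
    rw [hV'.isoSpec_hom, Scheme.Opens.toSpecΓ_SpecMap_presheaf_map_top]
  exact IsPullback.of_iso h1 hV'.isoSpec.symm hV.isoSpec.symm (Iso.refl _) (Iso.refl _)
      (by rw [Iso.symm_hom, Iso.symm_hom, ← cancel_epi hV'.isoSpec.hom, Iso.hom_inv_id_assoc, ← reassoc_of% e1,
        Iso.hom_inv_id, Category.comp_id])
      (by rw [Iso.symm_hom, Iso.refl_hom, Category.comp_id, e2, Iso.inv_hom_id_assoc])
      (by rw [Iso.refl_hom, Category.comp_id, Iso.symm_hom, hψ, ← hV.isoSpec_inv_ι, Category.assoc])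
      (by simp)

/-- The square of sections is a pushout, given a basis of the direct image. -/
theorem isPushout_sections {P F : Scheme.{u}} (f : F ⟶ P) {R : CommRingCat.{u}} {d : ℕ}
    {b : Fin d → Sec ((Scheme.Modules.pushforward f).obj (Coh.structureModule F)) ⊤} (hb : IsLocBasis b)
    (V : P.Opens) (ψ₀ : R ≅ Γ(P, ⊤)) :
    IsPushout (ψ₀.hom ≫ P.presheaf.map (homOfLE (le_top : V ≤ ⊤)).op) (ψ₀.hom ≫ f.appTop) (f.app V)
      (F.presheaf.map (homOfLE (le_top : f ⁻¹ᵁ V ≤ ⊤)).op) := by
  let c : Fin d → Γ(F, ⊤) := b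
  refine isPushout_of_bijective _ _ _ _ ?_ (d := d) (c := c) ?_ ?_
  · rw [Category.assoc, Category.assoc]
    congr 1
    exact f.naturality _
  · have h1 := hb ⊤ le_rfl
    have h2 : Function.Bijective (fun a : Fin d → R => fun i => ψ₀.hom (a i)) := by
      have h3 : Function.Bijective ψ₀.hom := ConcreteCategory.bijective_of_isIso ψ₀.hom
      exact ⟨fun a a' h => funext fun i => h3.1 (congrFun h i),
        fun a => ⟨fun i => (h3.2 (a i)).choose, funext fun i => (h3.2 (a i)).choose_spec⟩⟩
    have h4 := h1.comp h2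
    have h5 : (fun a : Fin d → R => ∑ i, (ψ₀.hom ≫ f.appTop) (a i) * c i) =
        (fun a : Fin d → R => (comb b (le_refl ⊤) (fun i => ψ₀.hom (a i)) : Γ(F, ⊤))) := by
      funext a
      refine Finset.sum_congr rfl fun i _ => ?_
      have h6 : res _ (le_refl (⊤ : P.Opens)) (b i) = b i := res_self _ _ _
      rw [h6]
      rfl
    have h7 : Function.Bijective (fun a : Fin d → R =>
        ∑ i, (ψ₀.hom ≫ f.appTop) (a i) * c i) := by
      rw [h5]
      exact h4
    exact h7
  · exact hb V le_top

/-- A scheme whose structure morphism induces an isomorphism on global functions, an affine morphism to it with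
free direct image: the square is cartesian. -/
theorem isPullback_of_free {P F : Scheme.{u}} {R : CommRingCat.{u}} (q : P ⟶ Spec R) (f : F ⟶ P) [IsAffineHom f]
    {d : ℕ} {b : Fin d → Sec ((Scheme.Modules.pushforward f).obj (Coh.structureModule F)) ⊤}
    (hb : IsLocBasis b) (hq : IsIso q.appTop) :
    IsPullback f F.toSpecΓ q (Spec.map ((Scheme.ΓSpecIso R).inv ≫ q.appTop ≫ f.appTop)) := by
  let ψ₀ : R ≅ Γ(P, ⊤) := (Scheme.ΓSpecIso R).symm ≪≫ asIso q.appTop
  have hq' : q = P.toSpecΓ ≫ Spec.map ψ₀.hom := by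
    have h1 := Scheme.toSpecΓ_naturality q
    have h2 : q = (q ≫ (Spec R).toSpecΓ) ≫ Spec.map (Scheme.ΓSpecIso R).inv := by
      rw [Category.assoc, toSpecΓ_SpecMap_ΓSpecIso_inv, Category.comp_id]
    rw [h1, Category.assoc, ← Spec.map_comp] at h2
    exact h2
  have hφ : (Scheme.ΓSpecIso R).inv ≫ q.appTop ≫ f.appTop = ψ₀.hom ≫ f.appTop := by
    simp [ψ₀]
  rw [hφ]
  let U : P.affineOpens → P.Opens := fun V => V.1
  have hU : IsOpenCover U := iSup_affineOpens_eq_top P
  refine Scheme.isPullback_of_openCover f F.toSpecΓ q _ (P.openCoverOfIsOpenCover U hU) fun V => ?_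
  have hloc := isPullback_local (q := q) f V.1 V.2 (ψ₀.hom ≫ P.presheaf.map (homOfLE (le_top : V.1 ≤ ⊤)).op)
    (ψ₀.hom ≫ f.appTop) (by
      conv_rhs => rw [hq']
      rw [← Category.assoc, V.2.fromSpec_toSpecΓ, ← Spec.map_comp]) (isPushout_sections f hb V.1 ψ₀)
  have h3 := isPullback_morphismRestrict f V.1
  refine IsPullback.of_iso hloc (h3.flip.isoPullback) (Iso.refl _) (Iso.refl _) (Iso.refl _) ?_ ?_ ?_ ?_
  · exact (Category.comp_id _).trans (h3.flip.isoPullback_hom_snd).symm
  · exact (Category.comp_id _).trans (h3.flip.isoPullback_hom_fst_assoc _).symm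
  · exact (Category.comp_id _).trans (Category.id_comp _).symm
  · exact (Category.comp_id _).trans (Category.id_comp _).symm

end K924.FreePush
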