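import Groth.Prelude.Def_CohB1
import Groth.Prelude.Def_MoreMor
import Groth.Prelude.Def_FlatMod2
import Groth.Agent.PerfB.DescFT
import Groth.Agent.Divis.CartierStalk
import Groth.Agent.Divis.CartierBasic
import Groth.Agent.Ega43.FibPd

/-!
# Closed immersions with square zero ideals and modules (helper924)

For a surjective closed immersion `i : X ⟶ X'` whose kernel is of square zero on stalks, an arbitrary
`O_{X'}`-module `G` is of finite type if its pull-back `i^* G` is.
-/

set_option autoImplicit false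
universe u

open CategoryTheory CategoryTheory.Limits AlgebraicGeometry TopologicalSpace Opposite

namespace K924.NilThick

open Groth.Agent Groth.Agent.PerfB.FlatPull Groth.Agent.CycB.StalkExact Groth.Agent.VarietyA.StalkCrit
open Groth.Agent.Fdesc Groth.Agent.Fdesc.PullbackStalk Groth.Agent.Dcoh.FinLocFree
open AlgebraicGeometry.Scheme.Modules

/-! ### Algebra -/

section Alg

variable {A M : Type u} [CommRing A] [AddCommGroup M] [Module A M]

theorem eq_top_of_sup_smul (J : Ideal A) (hJ : J * J = ⊥) (N : Submodule A M)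
    (h : N ⊔ J • (⊤ : Submodule A M) = ⊤) : N = ⊤ := by
  have h1 : J • (⊤ : Submodule A M) ≤ N := by
    have h2 : J • (⊤ : Submodule A M) = J • (N ⊔ J • (⊤ : Submodule A M)) := by rw [h]
    rw [h2, Submodule.smul_sup, ← Submodule.mul_smul, hJ, Submodule.bot_smul, sup_bot_eq]
    exact Submodule.smul_le_right
  rw [← h]
  exact (sup_eq_left.mpr h1).symm

end Alg

variable {X X' : Scheme.{u}}

/-- A surjective closed immersion whose kernel has square zero on all stalks. -/
structure SqZero (i : X ⟶ X') : Prop where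
  isClosedImmersion : IsClosedImmersion i
  surjective : Surjective i
  ker_sq : ∀ x : X, RingHom.ker (i.stalkMap x).hom * RingHom.ker (i.stalkMap x).hom = ⊥

theorem SqZero.isHomeomorph {i : X ⟶ X'} (hi : SqZero i) : IsHomeomorph i.base := by
  have := hi.isClosedImmersion
  have := hi.surjective
  exact isHomeomorph_iff_isEmbedding_surjective.mpr ⟨i.isEmbedding, i.surjective⟩

theorem SqZero.stalkMap_surjective {i : X ⟶ X'} (hi : SqZero i) (x : X) :
    Function.Surjective (i.stalkMap x).hom := by
  have := hi.isClosedImmersion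
  exact i.stalkMap_surjective x

/-- The base change of a first order thickening. -/
theorem sqZero_of_isPullback {T T' : Scheme.{u}} {i : X ⟶ X'} {q : X ⟶ T} {q' : X' ⟶ T'} {t : T ⟶ T'}
    (hsq : IsPullback i q q' t) (ht : MoreMor.IsFirstOrderThickening t) : SqZero i := by
  obtain ⟨⟨h1, h2⟩, h3⟩ := ht
  have hi : IsClosedImmersion i := MorphismProperty.of_isPullback hsq.flip h1
  have hs : Surjective i := MorphismProperty.of_isPullback hsq.flip h2
  refine ⟨hi, hs, fun x => ?_⟩
  have hk : i.ker = t.ker.comap q' := by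
    rw [← Scheme.IdealSheafData.ker_fst_of_isClosedImmersion, ← hsq.isoPullback_hom_fst,
      Scheme.Hom.ker_comp_of_isIso]
  rw [Divis.CartierStalk.ker_stalkMap, hk, Divis.CartierStalk.stalkIdeal_comap, ← Ideal.map_mul,
    ← Divis.CartierBasic.stalkIdeal_mul, h3, Divis.CartierBasic.stalkIdeal_bot, Ideal.map_bot]

/-- The kernel of the stalk map of the base change. -/
theorem ker_stalkMap_of_isPullback {T T' : Scheme.{u}} {i : X ⟶ X'} {q : X ⟶ T} {q' : X' ⟶ T'}
    {t : T ⟶ T'} [IsClosedImmersion t] (hsq : IsPullback i q q' t) (x : X) :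
    ∃ I : Ideal (T'.presheaf.stalk (q' (i x))),
      RingHom.ker (i.stalkMap x).hom = I.map (q'.stalkMap (i x)).hom := by
  have hi : IsClosedImmersion i := MorphismProperty.of_isPullback hsq.flip ‹IsClosedImmersion t›
  have hk : i.ker = t.ker.comap q' := by
    rw [← Scheme.IdealSheafData.ker_fst_of_isClosedImmersion, ← hsq.isoPullback_hom_fst,
      Scheme.Hom.ker_comp_of_isIso]
  exact ⟨_, by rw [Divis.CartierStalk.ker_stalkMap, hk, Divis.CartierStalk.stalkIdeal_comap]⟩

theorem ker_sq_of_arrow_iso {A B C D : CommRingCat.{u}} (f : A ⟶ B) (g : C ⟶ D)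
    (e : Arrow.mk f ≅ Arrow.mk g) (h : RingHom.ker g.hom * RingHom.ker g.hom = ⊥) :
    RingHom.ker f.hom * RingHom.ker f.hom = ⊥ := by
  have hl : Function.Bijective e.hom.left.hom :=
    (ConcreteCategory.isIso_iff_bijective _).mp (inferInstanceAs (IsIso e.hom.left))
  have hw : e.hom.left ≫ g = f ≫ e.hom.right := e.hom.w
  rw [eq_bot_iff, Ideal.mul_le]
  intro a ha b hb
  have key : ∀ a ∈ RingHom.ker f.hom, e.hom.left.hom a ∈ RingHom.ker g.hom := by
    intro a ha
    have h1 := congrArg (fun k => k.hom a) hw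
    simp only [CommRingCat.hom_comp, RingHom.comp_apply] at h1
    rw [RingHom.mem_ker] at ha ⊢
    rw [h1, ha, map_zero]
  have h2 : e.hom.left.hom a * e.hom.left.hom b ∈ RingHom.ker g.hom * RingHom.ker g.hom :=
    Ideal.mul_mem_mul (key a ha) (key b hb)
  rw [h, ← map_mul, Submodule.mem_bot] at h2
  exact hl.1 (h2.trans (map_zero _).symm)

theorem SqZero.restrict {i : X ⟶ X'} (hi : SqZero i) (V : X'.Opens) : SqZero (i ∣_ V) := by
  refine ⟨IsZariskiLocalAtTarget.restrict hi.isClosedImmersion V,
    IsZariskiLocalAtTarget.restrict hi.surjective V, fun x => ?_⟩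
  exact ker_sq_of_arrow_iso _ _ (morphismRestrictStalkMap i V x) (hi.ker_sq x.1)

/-! ### Stalks of the pull-back -/

section CanKer

variable {W V : Scheme.{u}}

/-- The kernel of `F_{g y} → (g^* F)_y` when `O_{V, g y} → O_{W, y}` is surjective. -/
theorem mem_of_canAdd_eq_zero (g : W ⟶ V) (F : V.Modules) (y : W)
    (hp : Function.Surjective (g.stalkMap y).hom) (t : F.presheaf.stalk (g.base y)) (ht : PullbackStalk.canAdd g F y t = 0) :
    t ∈ (RingHom.ker (g.stalkMap y).hom • (⊤ : Submodule (V.presheaf.stalk (g.base y)) (F.presheaf.stalk (g.base y)))) := by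
  let I := RingHom.ker (g.stalkMap y).hom
  let Q := F.presheaf.stalk (g y) ⧸ (I • (⊤ : Submodule (V.presheaf.stalk (g y)) (F.presheaf.stalk (g y))))
  let σ : (V.presheaf.stalk (g y) ⧸ I) ≃+* W.presheaf.stalk y := RingHom.quotientKerEquivOfSurjective hp
  let _ : Module (W.presheaf.stalk y) Q := Module.compHom Q σ.symm.toRingHom
  have hg : ∀ (r : V.presheaf.stalk (g y)) (t : F.presheaf.stalk (g y)),
    (Submodule.mkQ (I • (⊤ : Submodule (V.presheaf.stalk (g y)) (F.presheaf.stalk (g y))))).toAddMonoidHom (r • t) =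
      g.stalkMap y r • (Submodule.mkQ (I • (⊤ : Submodule (V.presheaf.stalk (g y)) (F.presheaf.stalk (g y))))).toAddMonoidHom t := by
    intro r t
    have hσ : σ.symm (g.stalkMap y r) = Ideal.Quotient.mk I r := by
      rw [RingEquiv.symm_apply_eq]
      rfl
    change _ = σ.symm (g.stalkMap y r) •
      (Submodule.mkQ (I • (⊤ : Submodule (V.presheaf.stalk (g y)) (F.presheaf.stalk (g y))))) t
    rw [hσ]
    rfl
  have h1 := PullbackStalk.lift_canAdd (M := F) (Q := Q) g _ hg t
  rw [ht, map_zero] at h1
  exact (Submodule.Quotient.mk_eq_zero _).mp h1.symm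

theorem canAdd_eq_zero_of_mem (g : W ⟶ V) (F : V.Modules) (y : W) (t : F.presheaf.stalk (g.base y))
    (ht : t ∈ (RingHom.ker (g.stalkMap y).hom • (⊤ : Submodule (V.presheaf.stalk (g.base y)) (F.presheaf.stalk (g.base y))))) :
    PullbackStalk.canAdd g F y t = 0 := by
  induction ht using Submodule.smul_induction_on' with
  | smul r hr m _ =>
    refine (PullbackStalk.canAdd_smul g F y r m).trans ?_
    have : (g.stalkMap y) r = 0 := hr
    rw [this, zero_smul]
  | add a _ b _ ha hb =>
    refine (map_add (PullbackStalk.canAdd g F y) a b).trans ?_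
    rw [ha, hb, add_zero]

end CanKer

theorem SqZero.finite_stalk {i : X ⟶ X'} (hi : SqZero i) (G : X'.Modules) (x : X)
    (h : Module.Finite (X.presheaf.stalk x) (((Scheme.Modules.pullback i).obj G).presheaf.stalk x)) :
    Module.Finite (X'.presheaf.stalk (i.base x)) (G.presheaf.stalk (i.base x)) := by
  have hs := hi.stalkMap_surjective x
  obtain ⟨n, g, hg⟩ := Module.Finite.exists_fin (R := X.presheaf.stalk x)
    (M := ((Scheme.Modules.pullback i).obj G).presheaf.stalk x)
  have hsurj : Function.Surjective (PullbackStalk.canAdd i G x) := by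
    intro z
    have hz : z ∈ Submodule.span (X.presheaf.stalk x) (Set.range (PullbackStalk.canAdd i G x)) := by
      rw [PullbackStalk.span_range_canAdd]; trivial
    induction hz using Submodule.span_induction with
    | mem t ht => exact ht
    | zero => exact ⟨0, map_zero _⟩
    | add a b _ _ ha hb =>
      obtain ⟨a', rfl⟩ := ha
      obtain ⟨b', rfl⟩ := hb
      exact ⟨a' + b', map_add _ _ _⟩
    | smul r a _ ha =>
      obtain ⟨a', rfl⟩ := ha
      obtain ⟨r', rfl⟩ := hs r
      exact ⟨r' • a', PullbackStalk.canAdd_smul i G x r' a'⟩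
  choose g' hg' using fun j => hsurj (g j)
  suffices hsp : Submodule.span (X'.presheaf.stalk (i.base x)) (Set.range g') = ⊤ from
    ⟨hsp ▸ Submodule.fg_span (Set.finite_range g')⟩
  refine eq_top_of_sup_smul (RingHom.ker (i.stalkMap x).hom) (hi.ker_sq x) _ ?_
  rw [eq_top_iff]
  intro m _
  have h1 : PullbackStalk.canAdd i G x m ∈ Submodule.span (X.presheaf.stalk x) (Set.range g) := by
    rw [hg]; trivial
  obtain ⟨c, hc⟩ := (Submodule.mem_span_range_iff_exists_fun _).mp h1
  choose c' hc' using fun j => hs (c j)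
  have h2 : PullbackStalk.canAdd i G x (∑ j, c' j • g' j) = PullbackStalk.canAdd i G x m := by
    rw [map_sum, ← hc]
    refine Finset.sum_congr rfl fun j _ => ?_
    rw [← hg' j, ← hc' j]
    exact PullbackStalk.canAdd_smul i G x _ _
  have h3 : m - ∑ j, c' j • g' j ∈ RingHom.ker (i.stalkMap x).hom •
      (⊤ : Submodule (X'.presheaf.stalk (i.base x)) (G.presheaf.stalk (i.base x))) := by
    refine mem_of_canAdd_eq_zero i G x hs _ ?_
    rw [map_sub, h2, sub_self]
  have h4 : ∑ j, c' j • g' j ∈ Submodule.span (X'.presheaf.stalk (i.base x)) (Set.range g') :=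
    Submodule.sum_mem _ fun j _ => Submodule.smul_mem _ _ (Submodule.subset_span ⟨j, rfl⟩)
  have h5 : m = ∑ j, c' j • g' j + (m - ∑ j, c' j • g' j) := by abel
  rw [h5]
  exact Submodule.add_mem_sup h4 h3

theorem SqZero.subsingleton_stalk {i : X ⟶ X'} (hi : SqZero i) (G : X'.Modules) (x : X)
    (h : Subsingleton (((Scheme.Modules.pullback i).obj G).presheaf.stalk x)) :
    Subsingleton (G.presheaf.stalk (i.base x)) := by
  have hs := hi.stalkMap_surjective x
  have h1 : (⊥ : Submodule (X'.presheaf.stalk (i.base x)) (G.presheaf.stalk (i.base x))) = ⊤ := by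
    refine eq_top_of_sup_smul (RingHom.ker (i.stalkMap x).hom) (hi.ker_sq x) _ ?_
    rw [bot_sup_eq, eq_top_iff]
    intro m _
    exact mem_of_canAdd_eq_zero i G x hs _ (Subsingleton.elim _ _)
  exact (Submodule.subsingleton_iff (X'.presheaf.stalk (i.base x))).mp
    (subsingleton_of_bot_eq_top h1)

theorem SqZero.subsingleton_stalk_iff {i : X ⟶ X'} (hi : SqZero i) (G : X'.Modules) (x : X) :
    Subsingleton (((Scheme.Modules.pullback i).obj G).presheaf.stalk x) ↔
      Subsingleton (G.presheaf.stalk (i.base x)) :=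
  ⟨hi.subsingleton_stalk G x, fun _ => subsingleton_stalk_pullback i G x⟩

/-! ### Finite type descends -/

/-- If `i^* C` is of finite type, the vanishing locus of `C` is open. -/
theorem SqZero.isOpen_subsingleton_stalk {i : X ⟶ X'} (hi : SqZero i) (C : X'.Modules)
    (h : CohB1.IsFT ((Scheme.Modules.pullback i).obj C)) :
    IsOpen {y : X' | Subsingleton (C.presheaf.stalk y)} := by
  rw [← hi.isHomeomorph.isQuotientMap.isOpen_preimage]
  convert CohqA.FTStalk.isOpen_setOf_subsingleton_stalk _ h using 1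
  ext x
  exact (hi.subsingleton_stalk_iff C x).symm

/-- For a surjective closed immersion `i` with square zero ideal, an arbitrary module is of finite type
if its pull-back is. -/
theorem SqZero.isFT_of_pullback {i : X ⟶ X'} (hi : SqZero i) (M : X'.Modules)
    (h : CohB1.IsFT ((Scheme.Modules.pullback i).obj M)) : CohB1.IsFT M := by
  have hcl := hi.isClosedImmersion
  have hsu := hi.surjective
  refine CohqB.FiniteType.isFT_of_cover fun y => ?_
  obtain ⟨x, rfl⟩ := i.surjective y
  have hfin := hi.finite_stalk M x (FinStalk.finite_stalk_of_isFiniteType _ h x)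
  obtain ⟨V, hx, n, φ, hφ⟩ := PerfB.DescFT.exists_stalkLin_surjective M (i.base x) hfin
  let C := cokernel φ
  let g : (i ⁻¹ᵁ V).toScheme ⟶ V.toScheme := i ∣_ V
  have hg : SqZero g := hi.restrict V
  have hC : CohB1.IsFT ((Scheme.Modules.pullback g).obj C) := by
    have h1 : CohB1.IsFT (((Scheme.Modules.pullback i).obj M).restrict (i ⁻¹ᵁ V).ι) :=
      CohqB.FiniteType.IsFT.restrict h _
    have h2 : CohB1.IsFT ((Scheme.Modules.pullback g).obj ((Scheme.Modules.pullback V.ι).obj M)) :=
      CohqB.FiniteType.IsFT.of_iso h1 ((pullbackRestrict i V).app M ≪≫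
        (Scheme.Modules.pullback g).mapIso ((restrictFunctorIsoPullback V.ι).app M))
    exact CohqB.FiniteType.IsFT.of_epi h2 ((Scheme.Modules.pullback g).map (cokernel.π φ))
  have hop := hg.isOpen_subsingleton_stalk C hC
  let W : V.toScheme.Opens := ⟨_, hop⟩
  have hW : CohqB.FiniteType.HasFinGen (((Scheme.Modules.pullback V.ι).obj M).restrict W.ι) :=
    PerfB.DescFT.hasFinGen_restrict_of_stalk (PerfB.DescFT.hasFinGen_freeMod _ n) φ W fun y hy =>
      (subsingleton_cokernel_stalk_iff φ y).mp hy
  refine ⟨W.toScheme, W.ι ≫ V.ι, inferInstance, ?_, ?_⟩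
  · have hyW : (⟨i.base x, hx⟩ : V) ∈ W :=
      (subsingleton_cokernel_stalk_iff φ _).mpr hφ
    exact ⟨⟨⟨i.base x, hx⟩, hyW⟩, rfl⟩
  · refine CohqB.FiniteType.IsFT.of_iso hW.isFT ?_
    exact (restrictFunctor W.ι).mapIso ((restrictFunctorIsoPullback V.ι).symm.app M) ≪≫
      (restrictFunctorComp W.ι V.ι).symm.app M

/-! ### Flatness and kernels -/

theorem canAdd_surjective (i : X ⟶ X') (G : X'.Modules) (x : X)
    (hs : Function.Surjective (i.stalkMap x).hom) : Function.Surjective (PullbackStalk.canAdd i G x) := by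
  intro z
  have hz : z ∈ Submodule.span (X.presheaf.stalk x) (Set.range (PullbackStalk.canAdd i G x)) := by
    rw [PullbackStalk.span_range_canAdd]; trivial
  induction hz using Submodule.span_induction with
  | mem t ht => exact ht
  | zero => exact ⟨0, map_zero _⟩
  | add a b _ _ ha hb =>
    obtain ⟨a', rfl⟩ := ha
    obtain ⟨b', rfl⟩ := hb
    exact ⟨a' + b', map_add _ _ _⟩
  | smul r a _ ha =>
    obtain ⟨a', rfl⟩ := ha
    obtain ⟨r', rfl⟩ := hs r
    exact ⟨r' • a', PullbackStalk.canAdd_smul i G x r' a'⟩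

/-- The pull-back of a mono `u : K ⟶ P` with cokernel flat over the base of the thickening is a mono. -/
theorem mono_pullback_of_flat {T T' : Scheme.{u}} {i : X ⟶ X'} {q : X ⟶ T} {q' : X' ⟶ T'}
    {t : T ⟶ T'} [IsClosedImmersion t] (hsq : IsPullback i q q' t) {K P F : X'.Modules}
    (u : K ⟶ P) (v : P ⟶ F) (w : u ≫ v = 0) (h : (ShortComplex.mk u v w).ShortExact)
    (hF : FlatMod.IsFlatOver q' F) : Mono ((Scheme.Modules.pullback i).map u) := by
  have hi : IsClosedImmersion i := MorphismProperty.of_isPullback hsq.flip ‹IsClosedImmersion t›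
  refine mono_of_stalks _ fun x => ?_
  have hs : Function.Surjective (i.stalkMap x).hom := i.stalkMap_surjective x
  obtain ⟨I, hI⟩ := ker_stalkMap_of_isPullback hsq x
  letI := stalkAlg q' (i x)
  letI := FlatMod.moduleStalkOver q' P (i x)
  haveI := isScalarTower q' P (i x)
  letI := FlatMod.moduleStalkOver q' F (i x)
  haveI := isScalarTower q' F (i x)
  haveI : Module.Flat (T'.presheaf.stalk (q'.base (i.base x))) (F.presheaf.stalk (i.base x)) := hF (i x)
  have := h.mono_f
  have := h.epi_g
  have key := Ega43.FibPd.reduce_injective I (stalkLin u (i x)) (stalkLin v (i x))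
    (stalkLin_injective u _) (stalkLin_exact _ h.exact _) (stalkLin_surjective v _)
  rw [injective_iff_map_eq_zero]
  intro z hz
  obtain ⟨k, rfl⟩ := canAdd_surjective i K x hs z
  have h1 : PullbackStalk.canAdd i P x (stalkLin u (i x) k) = 0 :=
    (PerfB.FlatPull.stalkLin_pullback_canAdd i u x k).symm.trans hz
  have h2 := mem_of_canAdd_eq_zero i P x hs _ h1
  refine canAdd_eq_zero_of_mem i K x k ?_
  rw [hI] at h2 ⊢
  have h3 : (stalkLin u (i x)).reduceModIdeal (I.map (algebraMap _ _)) (Submodule.Quotient.mk k) = 0 := by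
    rw [LinearMap.reduceModIdeal_apply, Submodule.Quotient.mk_eq_zero]
    exact h2
  have h4 := (injective_iff_map_eq_zero _).mp key _ h3
  rw [Submodule.Quotient.mk_eq_zero] at h4
  exact h4

end K924.NilThick
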