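import Groth.Agent.CohB1.K924.NilThick
import Groth.Agent.Smoothlim.FPMod
import Groth.Agent.Smoothlim.ModKer
import Groth.Agent.PerfC.PCCover
import Groth.Agent.FormalA.PullbackQC
import Groth.Agent.Ega1.StalkFP
import Groth.Agent.PerfA.QCohEpi
import Groth.Agent.Models2.FPCoh

/-!
# Kernels of epimorphisms onto finitely presented modules are of finite type (helper924)
-/

set_option autoImplicit false
universe u

open CategoryTheory CategoryTheory.Limits AlgebraicGeometry TopologicalSpace Opposite

namespace K924.NilThickFP

open Groth.Agent AlgebraicGeometry.Scheme.Modules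

variable {X : Scheme.{u}}

noncomputable def appLin {M N : X.Modules} (φ : M ⟶ N) (U : X.Opens) :
    Γ(M, U) →ₗ[Γ(X, U)] Γ(N, U) where
  toFun := φ.app U
  map_add' := map_add _
  map_smul' r s := Scheme.Modules.Hom.app_smul φ r s

/-- The kernel of an epimorphism from a quasi-coherent module of finite type onto a module of finite
presentation is of finite type. -/
theorem isFT_kernel {P F : X.Modules} (hP : Coh.IsQCoh P) (hP' : CohB1.IsFT P) (hF : CohB1.IsFP F)
    (f : P ⟶ F) [Epi f] : CohB1.IsFT (kernel f) := by
  have hFq : Coh.IsQCoh F := Models2.FPCoh.isQCoh_of_isFP hF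
  have hK : Coh.IsQCoh (kernel f) := PerfA.QCohSerre.isQCoh_kernel f hP hFq
  refine CohqA.FinSec.isFT_of_finite hK fun x => ?_
  obtain ⟨W, hW, hxW, -, hWfp⟩ := Ega1.StalkFP.exists_affine_finitePresentation F hFq hF x ⊤ trivial
  refine ⟨W, hW, hxW, ?_⟩
  have hPf : Module.Finite Γ(X, W) Γ(P, W) := CohqA.FinSec.finite_sections (hU := hW) hP hP'
  have hs : Function.Surjective (appLin f W) := PerfA.QCohEpi.app_surjective_of_epi f hW
  have hfg : (LinearMap.ker (appLin f W)).FG := Module.FinitePresentation.fg_ker _ hs
  let ι := appLin (kernel.ι f) W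
  have hι : Function.Injective ι := Smoothlim.ModKer.app_injective_of_mono (kernel.ι f) W
  have hr : LinearMap.range ι = LinearMap.ker (appLin f W) := by
    apply le_antisymm
    · rintro _ ⟨y, rfl⟩
      change f.app W ((kernel.ι f).app W y) = 0
      have := congrArg (fun g : kernel f ⟶ F => g.app W y) (kernel.condition f)
      exact this
    · intro y hy
      exact Smoothlim.ModKer.exists_of_app_eq_zero f W y hy
  have h1 : Module.Finite Γ(X, W) (LinearMap.range ι) := by
    rw [hr]; exact Module.Finite.iff_fg.mpr hfg
  exact Module.Finite.equiv (LinearEquiv.ofInjective ι hι).symm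

end K924.NilThickFP
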